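import Groth.Agent.FinCov.K993.QAlg

/-!
# The trace of a finite locally free quasi-coherent algebra
-/

set_option autoImplicit false
set_option linter.unusedSectionVars false
universe u

open CategoryTheory CategoryTheory.Limits AlgebraicGeometry Opposite TopologicalSpace
open Groth.Agent.Fdesc.LocGen Groth.Agent.Ega2.BasSec K993.QAlg

namespace K993.Trace

variable {X : Scheme.{u}} {A : RelSpec.QCAlg X}

/-- the opens over which `A` has a basis -/
def HasBas (A : RelSpec.QCAlg X) (V : X.Opens) : Prop := ∃ (n : ℕ) (e : Fin n → Γ(A.toModule, V)), IsBas e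

theorem HasBas.mono {V W : X.Opens} (hV : HasBas A V) (h : W ≤ V) : HasBas A W := by
  obtain ⟨n, e, he⟩ := hV
  exact ⟨n, _, he.res h⟩

theorem exists_hasBas (hA : FlatMod.IsFinLocFree A.toModule) (x : X) : ∃ V : X.Opens, x ∈ V ∧ HasBas A V := by
  obtain ⟨U, n, hx, h⟩ := hA x
  rw [nonempty_restrict_iso_freeMod_iff] at h
  obtain ⟨e, he⟩ := h
  exact ⟨U, hx, n, e, he⟩

theorem HasBas.trace_res {V W : X.Opens} (hV : HasBas A V) (h : W ≤ V) (a : S A V) :
    Algebra.trace Γ(X, W) (S A W) (resA A h a) = ores h (Algebra.trace Γ(X, V) (S A V) a) := by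
  obtain ⟨n, e, he⟩ := hV
  exact QAlg.trace_res he le_rfl h a

/-- `t` is the trace of `a` -/
def IsTr {U : X.Opens} (a : S A U) (t : Γ(X, U)) : Prop :=
  ∀ (V : X.Opens) (hV : V ≤ U), HasBas A V → ores hV t = Algebra.trace Γ(X, V) (S A V) (resA A hV a)

theorem IsTr.unique (hA : FlatMod.IsFinLocFree A.toModule) {U : X.Opens} {a : S A U} {t t' : Γ(X, U)}
    (h : IsTr a t) (h' : IsTr a t') : t = t' := by
  choose W hW hW' using exists_hasBas hA
  refine ores_ext (fun x : U => W x.1 ⊓ U) (fun x => inf_le_right) ?_ (fun x => ?_)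
  · intro x hx
    exact Opens.mem_iSup.mpr ⟨⟨x, hx⟩, hW x, hx⟩
  · rw [h _ _ ((hW' x.1).mono inf_le_left), h' _ _ ((hW' x.1).mono inf_le_left)]

theorem exists_isTr (hA : FlatMod.IsFinLocFree A.toModule) {U : X.Opens} (a : S A U) :
    ∃ t : Γ(X, U), IsTr a t := by
  choose W hW hW' using exists_hasBas hA
  have hcov : U ≤ ⨆ x : U, W x.1 ⊓ U := fun x hx => Opens.mem_iSup.mpr ⟨⟨x, hx⟩, hW x, hx⟩
  have hb : ∀ x : U, HasBas A (W x.1 ⊓ U) := fun x => (hW' x.1).mono inf_le_left
  obtain ⟨t, ht⟩ := ores_glue (fun x : U => W x.1 ⊓ U) (fun x => inf_le_right) hcov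
    (fun x => Algebra.trace Γ(X, W x.1 ⊓ U) (S A (W x.1 ⊓ U)) (resA A inf_le_right a)) (fun x y => by
      rw [← (hb x).trace_res, ← (hb y).trace_res, resA_resA, resA_resA])
  refine ⟨t, fun V hV hbV => ?_⟩
  refine ores_ext (fun x : V => W x.1 ⊓ V) (fun x => inf_le_right) ?_ (fun x => ?_)
  · intro x hx
    exact Opens.mem_iSup.mpr ⟨⟨x, hx⟩, hW x, hx⟩
  · have h1 := ht ⟨x.1, hV x.2⟩
    have hle : W x.1 ⊓ V ≤ W x.1 ⊓ U := inf_le_inf_left _ hV
    have h2 := congrArg (ores hle) h1
    rw [ores_ores, ← (hb ⟨x.1, hV x.2⟩).trace_res, resA_resA] at h2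
    rw [ores_ores, h2, ← hbV.trace_res, resA_resA]

theorem isTr_add {U : X.Opens} {a a' : S A U} {t t' : Γ(X, U)} (h : IsTr a t) (h' : IsTr a' t') :
    IsTr (a + a') (t + t') := by
  intro V hV hb
  rw [map_add, map_add, map_add, h V hV hb, h' V hV hb]

theorem isTr_smul {U : X.Opens} {a : S A U} {t : Γ(X, U)} (r : Γ(X, U)) (h : IsTr a t) :
    IsTr (r • a) (r * t) := by
  intro V hV hb
  rw [map_mul, resA_smul, map_smul, h V hV hb, smul_eq_mul]

theorem isTr_res {U V : X.Opens} (h : V ≤ U) {a : S A U} {t : Γ(X, U)} (ht : IsTr a t) :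
    IsTr (resA A h a) (ores h t) := by
  intro W hW hb
  rw [ores_ores, resA_resA, ht W _ hb]

/-- the trace over `U` -/
noncomputable def tr (hA : FlatMod.IsFinLocFree A.toModule) (U : X.Opens) : S A U →+ Γ(X, U) where
  toFun a := (exists_isTr hA a).choose
  map_zero' := (exists_isTr hA 0).choose_spec.unique hA (fun V hV _ => by simp)
  map_add' a a' := (exists_isTr hA (a + a')).choose_spec.unique hA
    (isTr_add (exists_isTr hA a).choose_spec (exists_isTr hA a').choose_spec)

theorem isTr_tr (hA : FlatMod.IsFinLocFree A.toModule) {U : X.Opens} (a : S A U) : IsTr a (tr hA U a) :=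
  (exists_isTr hA a).choose_spec

/-- the trace as a morphism of modules -/
noncomputable def trHom (hA : FlatMod.IsFinLocFree A.toModule) : A.toModule ⟶ Coh.structureModule X :=
  mkHom (fun U => (ofFun (X := X) (U := U)).toAddMonoidHom.comp ((tr hA U).comp (toG A U).symm.toAddEquiv.toAddMonoidHom))
    (fun U a m => by
      change tr hA U (a • (toG A U).symm m) = a * tr hA U ((toG A U).symm m)
      exact (isTr_tr hA _).unique hA (isTr_smul a (isTr_tr hA _)))
    (fun U V h m => by
      change tr hA V (resA A h ((toG A U).symm m)) = ores h (tr hA U ((toG A U).symm m))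
      exact (isTr_tr hA _).unique hA (isTr_res h (isTr_tr hA _)))

theorem trHom_app (hA : FlatMod.IsFinLocFree A.toModule) (U : X.Opens) (a : S A U) :
    (trHom hA).app U (toG A U a) = ofFun (tr hA U a) := rfl

/-- over an affine open, a finite free algebra of sections has a basis -/
theorem hasBas_of_affine (hA : FlatMod.IsFinLocFree A.toModule) {U : X.Opens} (hU : IsAffineOpen U)
    (h1 : Module.Free Γ(X, U) (S A U)) (h2 : Module.Finite Γ(X, U) (S A U)) : HasBas A U := by
  have hq : Coh.IsQCoh A.toModule := Groth.Agent.Ega2.QCohLocal.isQCoh_of_isFinLocFree hA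
  let b := Module.Free.chooseBasis Γ(X, U) (S A U)
  let e := Fintype.equivFin (Module.Free.ChooseBasisIndex Γ(X, U) (S A U))
  let b' := (b.reindex e).map (toG A U)
  exact ⟨_, b', isBas_of_bijective hq hU ((comb_bijective_iff _).2 ⟨b', rfl⟩)⟩

/-- if `A` has a basis over `U`, its algebra of sections is finite free -/
theorem HasBas.free {U : X.Opens} (h : HasBas A U) :
    Module.Free Γ(X, U) (S A U) ∧ Module.Finite Γ(X, U) (S A U) := by
  obtain ⟨n, e, he⟩ := h
  obtain ⟨b, -⟩ := exists_basis he le_rfl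
  exact ⟨Module.Free.of_basis b, Module.Finite.of_basis b⟩

theorem isTrace_iff (hA : FlatMod.IsFinLocFree A.toModule) (τ : A.toModule ⟶ Coh.structureModule X) :
    FinCov.IsTrace A τ ↔ ∀ (U : X.Opens) (a : S A U), IsTr a (ofFun.symm (τ.app U (toG A U a))) := by
  constructor
  · intro h U a V hV hb
    have hres : ores hV (ofFun.symm (τ.app U (toG A U a))) = ofFun.symm (τ.app V (toG A V (resA A hV a))) := by
      rw [toG_resA, app_res]
      rfl
    rw [hres]
    generalize resA A hV a = a'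
    -- reduce to affine opens
    have hcov : V ≤ ⨆ i : {W : X.Opens // IsAffineOpen W ∧ W ≤ V}, i.1 := by
      intro x hx
      obtain ⟨W, hW, hxW, hWV⟩ := exists_isAffineOpen_mem_and_subset hx
      exact Opens.mem_iSup.mpr ⟨⟨W, hW, hWV⟩, hxW⟩
    refine ores_ext (fun i : {W : X.Opens // IsAffineOpen W ∧ W ≤ V} => i.1) (fun i => i.2.2) hcov ?_
    rintro ⟨W, hW, hWV⟩
    rw [← hb.trace_res]
    have hbW := hb.mono hWV
    have := h W hW hbW.free.1 hbW.free.2 (resA A hWV a')
    have h2 : ores hWV (ofFun.symm (τ.app V (toG A V a'))) = ofFun.symm (τ.app W (toG A W (resA A hWV a'))) := by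
      rw [toG_resA, app_res]
      rfl
    rw [h2]
    exact this
  · intro h U hU h1 h2 (a : S A U)
    have := h U a U le_rfl (hasBas_of_affine hA hU h1 h2)
    rw [ores_refl, resA_refl] at this
    exact this

theorem isTrace_trHom (hA : FlatMod.IsFinLocFree A.toModule) : FinCov.IsTrace A (trHom hA) := by
  rw [isTrace_iff hA]
  intro U a
  exact isTr_tr hA a

theorem isTrace_unique (hA : FlatMod.IsFinLocFree A.toModule) {τ τ' : A.toModule ⟶ Coh.structureModule X}
    (h : FinCov.IsTrace A τ) (h' : FinCov.IsTrace A τ') : τ = τ' := by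
  rw [isTrace_iff hA] at h h'
  apply Scheme.Modules.hom_ext
  intro U
  ext a
  exact (h U ((toG A U).symm a)).unique hA (h' U ((toG A U).symm a))

theorem existsUnique (hA : FlatMod.IsFinLocFree A.toModule) :
    ∃! τ : A.toModule ⟶ Coh.structureModule X, FinCov.IsTrace A τ :=
  ⟨trHom hA, isTrace_trHom hA, fun _ h => isTrace_unique hA h (isTrace_trHom hA)⟩

end K993.Trace
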