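import Groth.Agent.FinCov.K993.Cover
import Groth.Agent.Ega1.QcqsPush

/-!
# Local freeness from sections over affine opens
-/

set_option autoImplicit false
set_option linter.unusedSectionVars false
set_option linter.style.haveILetI false
universe u

open CategoryTheory CategoryTheory.Limits AlgebraicGeometry Opposite TopologicalSpace
open Groth.Agent.Fdesc Groth.Agent.Fdesc.LocGen Groth.Agent.Ega2 Groth.Agent.Ega2.BasSec

namespace K993.LocFree

variable {X Y : Scheme.{u}}

open Groth.Agent.Fdesc.QCohStalk in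
theorem isFinLocFreeOfRank_of_sections {E : X.Modules} (hq : Coh.IsQCoh E) {r : ℕ}
    (h : ∀ V : X.Opens, IsAffineOpen V → Module.FinitePresentation Γ(X, V) Γ(E, V) ∧
      Module.Flat Γ(X, V) Γ(E, V) ∧
        ∀ p : PrimeSpectrum Γ(X, V), Module.rankAtStalk (R := Γ(X, V)) Γ(E, V) p = r) :
    FlatMod.IsFinLocFreeOfRank r E := by
  rw [isFinLocFreeOfRank_iff]
  intro x
  obtain ⟨V, hV, hx, -⟩ := exists_isAffineOpen_mem_and_subset (x := x) (U := ⊤) trivial
  obtain ⟨h1, h2, h3⟩ := h V hV
  obtain ⟨f, hf, ⟨b⟩⟩ := SemilocalFree.exists_basis_of_finite (A := Γ(X, V)) (M := Γ(E, V)) r h3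
    {hV.primeIdealOf ⟨x, hx⟩} (Set.finite_singleton _)
  let _ : Module Γ(X, V) Γ(E, X.basicOpen f) := resModule E (X.basicOpen_le f)
  let _ : Algebra Γ(X, V) Γ(X, X.basicOpen f) := resAlgebra f
  have : IsLocalization.Away f Γ(X, X.basicOpen f) :=
    hV.isLocalization_of_eq_basicOpen f (homOfLE (X.basicOpen_le f)) rfl
  have : IsScalarTower Γ(X, V) Γ(X, X.basicOpen f) Γ(E, X.basicOpen f) :=
    IsScalarTower.of_algebraMap_smul (fun r m => rfl)
  have : IsLocalizedModule (.powers f) (resₗ E (X.basicOpen_le f)) :=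
    isLocalizedModule_res E hV hq f
  obtain ⟨b'⟩ := SemilocalFree.nonempty_basis_of_isLocalizedModule (f := f)
    (LocalizedModule.mkLinearMap (.powers f) Γ(E, V)) (B' := Γ(X, X.basicOpen f))
    (resₗ E (X.basicOpen_le f)) b
  refine ⟨X.basicOpen f, b', ?_, isBas_of_bijective hq (hV.basicOpen f) ?_⟩
  · exact (mem_basicOpen_iff hV x hx f).mpr (hf _ rfl)
  · exact (comb_bijective_iff _).mpr ⟨b', rfl⟩

theorem isCover_iff (f : X ⟶ Y) (d : ℕ) :
    FinCov.IsCover f d ↔
      IsAffineHom f ∧ FlatMod.IsFinLocFreeOfRank d ((Scheme.Modules.pushforward f).obj (Coh.structureModule X)) := by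
  constructor
  · intro h
    have h1 : IsFinite f := h.1.1
    refine ⟨inferInstance, isFinLocFreeOfRank_of_sections
      (Groth.Agent.Ega1.QcqsPush.isQCoh_pushforward f _ (QCohLocal.isQCoh_structureModule X)) fun V hV => ?_⟩
    exact Cover.sections_of_isCover h (Cover.chart f V hV)
  · rintro ⟨h1, h2⟩
    refine Cover.isCover_of_charts d (fun V hV => Cover.chart f V hV) (fun V hV => ?_)
    exact sections_of_isFinLocFreeOfRank h2 hV

end K993.LocFree
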