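import Groth.Prelude.Def_FinCov
import Groth.Agent.Ega2.BasSec
import Mathlib.AlgebraicGeometry.Morphisms.Finite
import Mathlib.AlgebraicGeometry.Morphisms.Flat
import Mathlib.AlgebraicGeometry.Morphisms.FinitePresentation

/-!
# Covers of degree `d` and sections of the direct image over affine opens
-/

set_option autoImplicit false
set_option linter.unusedSectionVars false
set_option linter.style.haveILetI false
universe u

open CategoryTheory CategoryTheory.Limits AlgebraicGeometry Opposite TopologicalSpace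

namespace K993.Cover

variable {X Y : Scheme.{u}} (f : X ⟶ Y)

/-- charts of a morphism over the affine opens of the target -/
structure Chart (V : Y.Opens) (hV : IsAffineOpen V) where
  /-- the ring -/
  B : CommRingCat.{u}
  /-- the ring map -/
  φ : Γ(Y, V) ⟶ B
  /-- the chart -/
  g : Spec B ⟶ X
  isPullback : IsPullback g (Spec.map φ) f hV.fromSpec

theorem isPullback_fromSpec [IsAffineHom f] {V : Y.Opens} (hV : IsAffineOpen V) :
    IsPullback (hV.preimage f).fromSpec (Spec.map (f.app V)) f hV.fromSpec := by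
  refine (IsOpenImmersion.isPullback _ _ _ _ ?_ ?_).flip
  · rw [Scheme.Hom.app_eq_appLE]
    exact (hV.SpecMap_appLE_fromSpec f (hV.preimage f) le_rfl).symm
  · rw [IsAffineOpen.opensRange_fromSpec, IsAffineOpen.opensRange_fromSpec]

/-- the charts of an affine morphism -/
noncomputable def chart [IsAffineHom f] (V : Y.Opens) (hV : IsAffineOpen V) : Chart f V hV :=
  ⟨_, _, _, isPullback_fromSpec f hV⟩

/-- the charts of a relative spectrum -/
noncomputable def chartSpec (A : RelSpec.QCAlg Y) (V : Y.Opens) (hV : IsAffineOpen V) : Chart A.π V hV :=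
  ⟨_, A.str.app (op V), A.ι V hV, by
    refine (IsOpenImmersion.isPullback _ _ _ _ ?_ ?_).flip
    · exact A.ι_π V hV
    · rw [IsAffineOpen.opensRange_fromSpec, A.π_preimage V hV]⟩

variable {f}

theorem of_charts (P : MorphismProperty Scheme.{u}) [IsZariskiLocalAtTarget P]
    (c : ∀ (V : Y.Opens) (hV : IsAffineOpen V), Chart f V hV)
    (h : ∀ (V : Y.Opens) (hV : IsAffineOpen V), P (Spec.map (c V hV).φ)) : P f := by
  rw [IsZariskiLocalAtTarget.iff_of_openCover (P := P) (Scheme.AffineZariskiSite.directedCover Y)]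
  intro U
  have hU : IsAffineOpen U.1 := U.2
  have h1 : IsPullback (c U.1 hU).g (Spec.map (c U.1 hU).φ ≫ hU.isoSpec.inv) f U.1.ι := by
    refine IsPullback.of_iso (c U.1 hU).isPullback (Iso.refl _) (Iso.refl _) hU.isoSpec.symm (Iso.refl _)
      ?_ ?_ ?_ ?_
    · simp
    · simp
    · simp
    · simp [hU.isoSpec_inv_ι]
  have h3 : pullback.snd f U.1.ι =
      h1.isoPullback.inv ≫ Spec.map (c U.1 hU).φ ≫ hU.isoSpec.inv := by
    simp
  change P (pullback.snd f U.1.ι)
  rw [h3, P.cancel_left_of_respectsIso, P.cancel_right_of_respectsIso]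
  exact h U.1 hU

theorem finrank_fromSpec [Flat f] [IsFinite f] {V : Y.Opens} {hV : IsAffineOpen V} (c : Chart f V hV)
    (p : PrimeSpectrum Γ(Y, V)) :
    letI := c.φ.hom.toAlgebra
    f.finrank (hV.fromSpec p) = Module.rankAtStalk (R := Γ(Y, V)) c.B p := by
  letI := c.φ.hom.toAlgebra
  have h1 : IsFinite (Spec.map c.φ) := MorphismProperty.of_isPullback c.isPullback inferInstance
  have h2 : Flat (Spec.map c.φ) := MorphismProperty.of_isPullback c.isPullback inferInstance
  have h3 : Module.Finite Γ(Y, V) c.B := RingHom.finite_algebraMap.1 ((IsFinite.SpecMap_iff _).1 h1)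
  have h4 : Module.Flat Γ(Y, V) c.B := RingHom.flat_algebraMap_iff.1 ((Flat.SpecMap_iff).1 h2)
  rw [← Scheme.Hom.finrank_of_isPullback _ _ _ _ c.isPullback p,
    ← Scheme.Hom.finrank_SpecMap_algebraMap Γ(Y, V) c.B p]
  rfl

/-- from sections to covers -/
theorem isCover_of_charts (d : ℕ) (c : ∀ (V : Y.Opens) (hV : IsAffineOpen V), Chart f V hV)
    (h : ∀ (V : Y.Opens) (hV : IsAffineOpen V),
      letI := (c V hV).φ.hom.toAlgebra
      Module.FinitePresentation Γ(Y, V) (c V hV).B ∧ Module.Flat Γ(Y, V) (c V hV).B ∧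
        ∀ p : PrimeSpectrum Γ(Y, V), Module.rankAtStalk (R := Γ(Y, V)) (c V hV).B p = d) :
    FinCov.IsCover f d := by
  have h1 : IsFinite f := of_charts (@IsFinite : MorphismProperty Scheme.{u}) c fun V hV => by
    rw [IsFinite.SpecMap_iff]
    letI := (c V hV).φ.hom.toAlgebra
    have := (h V hV).1
    exact RingHom.finite_algebraMap.2 (inferInstanceAs (Module.Finite Γ(Y, V) (c V hV).B))
  have h2 : Flat f := of_charts (@Flat : MorphismProperty Scheme.{u}) c fun V hV => by
    rw [Flat.SpecMap_iff]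
    letI := (c V hV).φ.hom.toAlgebra
    exact RingHom.flat_algebraMap_iff.2 (h V hV).2.1
  have h3 : LocallyOfFinitePresentation f := of_charts (@LocallyOfFinitePresentation : MorphismProperty Scheme.{u}) c fun V hV => by
    rw [LocallyOfFinitePresentation.SpecMap_iff]
    letI := (c V hV).φ.hom.toAlgebra
    have := (h V hV).1
    exact (inferInstance : Algebra.FinitePresentation Γ(Y, V) (c V hV).B)
  refine ⟨⟨h1, h2, h3⟩, fun y => ?_⟩
  obtain ⟨V, hV, hy, -⟩ := exists_isAffineOpen_mem_and_subset (x := y) (U := ⊤) trivial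
  obtain ⟨p, rfl⟩ : y ∈ Set.range hV.fromSpec := by rw [hV.range_fromSpec]; exact hy
  exact (finrank_fromSpec (c V hV) p).trans ((h V hV).2.2 p)

/-- from covers to sections -/
theorem sections_of_isCover {d : ℕ} (hf : FinCov.IsCover f d) {V : Y.Opens} {hV : IsAffineOpen V}
    (c : Chart f V hV) :
    letI := c.φ.hom.toAlgebra
    Module.FinitePresentation Γ(Y, V) c.B ∧ Module.Flat Γ(Y, V) c.B ∧
      ∀ p : PrimeSpectrum Γ(Y, V), Module.rankAtStalk (R := Γ(Y, V)) c.B p = d := by
  obtain ⟨⟨h1, h2, h3⟩, h4⟩ := hf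
  letI := c.φ.hom.toAlgebra
  have h1' : IsFinite (Spec.map c.φ) := MorphismProperty.of_isPullback c.isPullback h1
  have h2' : Flat (Spec.map c.φ) := MorphismProperty.of_isPullback c.isPullback h2
  have h3' : LocallyOfFinitePresentation (Spec.map c.φ) :=
    MorphismProperty.of_isPullback (P := @LocallyOfFinitePresentation) c.isPullback h3
  have h5 : Module.Finite Γ(Y, V) c.B := RingHom.finite_algebraMap.1 ((IsFinite.SpecMap_iff _).1 h1')
  have h6 : Module.Flat Γ(Y, V) c.B := RingHom.flat_algebraMap_iff.1 ((Flat.SpecMap_iff).1 h2')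
  have h7 : Algebra.FinitePresentation Γ(Y, V) c.B := (LocallyOfFinitePresentation.SpecMap_iff _).1 h3'
  exact ⟨Module.FinitePresentation.of_finite_of_finitePresentation Γ(Y, V) c.B, h6, fun p =>
    (finrank_fromSpec c p).symm.trans (h4 _)⟩

end K993.Cover
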