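import Groth.Agent.FinCov.K993.Rank

/-!
# Algebras `O ⊕ L` given by a pairing
-/

set_option autoImplicit false
set_option linter.unusedSectionVars false
universe u

open CategoryTheory CategoryTheory.Limits AlgebraicGeometry Opposite TopologicalSpace
open Groth.Agent.Fdesc.LocGen Groth.Agent.Ega2.BasSec K993.QAlg K993.Trace K993.Rank

namespace K993.Dbl

variable {X : Scheme.{u}} {A : RelSpec.QCAlg X}

/-- the trace can be computed locally -/
theorem isTr_of_local (hA : FlatMod.IsFinLocFree A.toModule) {U : X.Opens} {a : S A U} {t : Γ(X, U)}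
    (h : ∀ x ∈ U, ∃ (V : X.Opens) (hV : V ≤ U), x ∈ V ∧ IsTr (resA A hV a) (ores hV t)) : IsTr a t := by
  have h1 : t = tr hA U a := by
    choose V hV hx hV' using h
    refine ores_ext (fun x : U => V x.1 x.2) (fun x => hV x.1 x.2) ?_ (fun x => ?_)
    · intro x hx'
      exact Opens.mem_iSup.mpr ⟨⟨x, hx'⟩, hx x hx'⟩
    · exact (hV' x.1 x.2).unique hA (isTr_res _ (isTr_tr hA a))
  rw [h1]
  exact isTr_tr hA a

/-- over an open with a basis, the trace is the trace -/
theorem isTr_trace {V : X.Opens} (hb : HasBas A V) (a : S A V) :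
    IsTr a (Algebra.trace Γ(X, V) (S A V) a) := by
  intro W hW _
  rw [hb.trace_res]

section

variable {L : X.Modules} (j : L ⟶ A.toModule)

/-- the inclusion on sections -/
noncomputable def jS (U : X.Opens) (l : Γ(L, U)) : S A U := (toG A U).symm (j.app U l)

theorem jS_add (U : X.Opens) (l l' : Γ(L, U)) : jS j U (l + l') = jS j U l + jS j U l' := by
  unfold jS
  rw [map_add, map_add]

theorem jS_smul (U : X.Opens) (r : Γ(X, U)) (l : Γ(L, U)) : jS j U (r • l) = r • jS j U l := by
  unfold jS
  rw [Scheme.Modules.Hom.app_smul, map_smul]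

theorem jS_res {U V : X.Opens} (h : V ≤ U) (l : Γ(L, U)) : resA A h (jS j U l) = jS j V (res L h l) := by
  unfold jS
  rw [app_res]
  rfl

/-- the decomposition hypothesis -/
def Dec : Prop := ∀ U : X.Opens, Function.Bijective
  (fun p : Γ(X, U) × Γ(L, U) => algebraMap Γ(X, U) (S A U) p.1 + jS j U p.2)

variable {j}

/-- a generator of `L` gives a basis `1, j e` of `A` -/
theorem Dec.isBas (h : Dec j) {U : X.Opens} {e : Γ(L, U)} (he : IsGen e) :
    IsBas (M := A.toModule) ![toG A U 1, toG A U (jS j U e)] := by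
  intro V hV
  have key : ∀ a : Fin 2 → Γ(X, V),
      comb (fun i => res A.toModule hV ((![toG A U 1, toG A U (jS j U e)] : Fin 2 → _) i)) a =
        toG A V (algebraMap Γ(X, V) (S A V) (a 0) + jS j V (a 1 • res L hV e)) := by
    intro a
    unfold comb
    rw [Fin.sum_univ_two]
    simp only [Matrix.cons_val_zero, Matrix.cons_val_one]
    rw [← toG_resA, ← toG_resA, map_one, jS_res, jS_smul, Algebra.algebraMap_eq_smul_one, map_add, map_smul,
      map_smul]
  have h1 : Function.Bijective (fun a : Fin 2 → Γ(X, V) => ((a 0, a 1 • res L hV e) : Γ(X, V) × Γ(L, V))) := by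
    constructor
    · intro a b hab
      have h2 := congrArg Prod.fst hab
      have h3 := congrArg Prod.snd hab
      funext i
      fin_cases i
      · exact h2
      · exact (he V hV).1 h3
    · rintro ⟨s, l⟩
      obtain ⟨c, hc⟩ := (he V hV).2 l
      exact ⟨![s, c], by simp only [Matrix.cons_val_zero, Matrix.cons_val_one]; exact Prod.ext rfl hc⟩
  have h2 := ((toG A V).bijective.comp (h V)).comp h1
  convert h2 using 1
  funext a
  exact key a

theorem Dec.rank_two (h : Dec j) (hL : PicF.IsInvertible L) : FlatMod.IsFinLocFreeOfRank 2 A.toModule := by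
  rw [isFinLocFreeOfRank_iff]
  intro x
  obtain ⟨U, e, hx, he⟩ := (isInvertible_iff L).1 hL x
  exact ⟨U, _, hx, h.isBas he⟩

/-- the trace in the basis `1, j e` -/
theorem Dec.trace_gen (h : Dec j) {V : X.Opens} {e : Γ(L, V)} (he : IsGen e) {p q : Γ(X, V)}
    (hpq : jS j V e * jS j V e = algebraMap Γ(X, V) (S A V) p + q • jS j V e) :
    Algebra.trace Γ(X, V) (S A V) (jS j V e) = q := by
  obtain ⟨b, hb⟩ := exists_basis (h.isBas he) (le_refl V)
  have hb0 : b 0 = 1 := by rw [hb, resA_refl]; rfl
  have hb1 : b 1 = jS j V e := by rw [hb, resA_refl]; rfl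
  have h0 : jS j V e * b 0 = b 1 := by rw [hb0, hb1, mul_one]
  have h1 : jS j V e * b 1 = p • b 0 + q • b 1 := by
    rw [hb0, hb1, hpq, Algebra.algebraMap_eq_smul_one]
  rw [Algebra.trace_eq_matrix_trace b, Matrix.trace_fin_two, Algebra.leftMulMatrix_eq_repr_mul,
    Algebra.leftMulMatrix_eq_repr_mul, h0, h1]
  simp

end

end K993.Dbl
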