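import Groth.Agent.FinCov.K993.Dbl

/-!
# The double cover algebra: rank and kernel of the trace
-/

set_option autoImplicit false
set_option linter.unusedSectionVars false
universe u

open CategoryTheory CategoryTheory.Limits AlgebraicGeometry Opposite TopologicalSpace
open Groth.Agent.Fdesc.LocGen Groth.Agent.Ega2.BasSec K993.QAlg K993.Trace K993.Rank K993.Dbl

namespace K993.Dbl2

variable {X : Scheme.{u}} {L : X.Modules} {m : CohB1.tensorMod L L ⟶ Coh.structureModule X}
  {A : RelSpec.QCAlg X} {j : L ⟶ A.toModule}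

theorem dec (h : FinCov.IsDblAlg L m A j) : Dec j := h.1

theorem mul_eq (h : FinCov.IsDblAlg L m A j) (U : X.Opens) (l l' : Γ(L, U)) :
    ∃ p : Γ(X, U), jS j U l * jS j U l' = algebraMap Γ(X, U) (S A U) p := ⟨_, h.2 U l l'⟩

theorem rank_two (hL : PicF.IsInvertible L) (h : FinCov.IsDblAlg L m A j) :
    FlatMod.IsFinLocFreeOfRank 2 A.toModule := (dec h).rank_two hL

theorem isTr_j (hL : PicF.IsInvertible L) (h : FinCov.IsDblAlg L m A j) {U : X.Opens} (l : Γ(L, U)) :
    IsTr (jS j U l) 0 := by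
  have hA := isFinLocFree (rank_two hL h)
  apply isTr_of_local hA
  intro x hx
  obtain ⟨V, e, hxV, he⟩ := (isInvertible_iff L).1 hL x
  refine ⟨V ⊓ U, inf_le_right, ⟨hxV, hx⟩, ?_⟩
  have he' := he.res (inf_le_left : V ⊓ U ≤ V)
  obtain ⟨c, hc⟩ := he'.exists_eq (res L (inf_le_right : V ⊓ U ≤ U) l)
  rw [jS_res, hc, jS_smul, map_zero]
  have h1 := isTr_smul c (isTr_trace ⟨_, _, (dec h).isBas he'⟩ (jS j (V ⊓ U) (res L inf_le_left e)))
  obtain ⟨p, hp⟩ := mul_eq h (V ⊓ U) (res L inf_le_left e) (res L inf_le_left e)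
  rw [(dec h).trace_gen he' (p := p) (q := 0) (by rw [hp, zero_smul, add_zero]), mul_zero] at h1
  exact h1

theorem isTr_add_j (hL : PicF.IsInvertible L) (h : FinCov.IsDblAlg L m A j) {U : X.Opens} (s : Γ(X, U))
    (l : Γ(L, U)) : IsTr (algebraMap Γ(X, U) (S A U) s + jS j U l) (2 • s) := by
  have := isTr_add (isTr_algebraMap (rank_two hL h) s) (isTr_j hL h l)
  rwa [add_zero] at this

theorem isUnit_two {U : X.Opens} (h2 : IsUnit (2 : Γ(X, ⊤))) : IsUnit (2 : Γ(X, U)) := by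
  have := h2.map (ores (le_top : U ≤ ⊤))
  rwa [map_ofNat] at this

theorem trace_eq_zero_iff (hL : PicF.IsInvertible L) (h : FinCov.IsDblAlg L m A j)
    (h2 : IsUnit (2 : Γ(X, ⊤))) {τ : A.toModule ⟶ Coh.structureModule X} (hτ : FinCov.IsTrace A τ)
    (U : X.Opens) (a : S A U) :
    τ.app U (toG A U a) = 0 ↔ ∃ l : Γ(L, U), j.app U l = toG A U a := by
  have hA := isFinLocFree (rank_two hL h)
  rw [isTrace_iff hA] at hτ
  obtain ⟨⟨s, l⟩, hsl⟩ := (dec h U).2 a
  have hsl : algebraMap Γ(X, U) (S A U) s + jS j U l = a := hsl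
  have h1 := (hτ U a).unique hA (hsl ▸ isTr_add_j hL h s l)
  have h3 : τ.app U (toG A U a) = ofFun (2 • s) := by rw [← h1]; rfl
  rw [h3]
  constructor
  · intro h4
    have h5 : (2 : Γ(X, U)) * s = 0 := by
      have h6 : (2 • s : Γ(X, U)) = 0 :=
        (ofFun (X := X) (U := U)).injective (h4.trans (map_zero _).symm)
      rwa [two_nsmul, ← two_mul] at h6
    have h6 : s = 0 := (isUnit_two h2).mul_right_eq_zero.1 h5
    refine ⟨l, ?_⟩
    rw [← hsl, h6, map_zero, zero_add]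
    rfl
  · rintro ⟨l', hl'⟩
    have h5 : a = algebraMap Γ(X, U) (S A U) 0 + jS j U l' := by
      rw [map_zero, zero_add]
      exact ((toG A U).symm_apply_eq.2 hl').symm
    have h6 : ((s, l) : Γ(X, U) × Γ(L, U)) = (0, l') := (dec h U).1 (hsl.trans h5)
    have h7 : s = 0 := congrArg Prod.fst h6
    rw [h7, smul_zero, map_zero]

end K993.Dbl2
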