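import Groth.Agent.FinCov.K993.Split
import Groth.Agent.Ega2.Tens

/-!
# Algebras of rank two are double cover algebras
-/

set_option autoImplicit false
set_option linter.unusedSectionVars false
universe u

open CategoryTheory CategoryTheory.Limits AlgebraicGeometry Opposite TopologicalSpace
open Groth.Agent.Fdesc.LocGen Groth.Agent.Ega2.BasSec K993.QAlg K993.Trace K993.Rank K993.Dbl K993.Split

namespace K993.Dbl3

variable {X : Scheme.{u}} {A : RelSpec.QCAlg X} {τ : A.toModule ⟶ Coh.structureModule X}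

variable (τ) in
/-- the values of `τ`, as functions -/
noncomputable def tF (U : X.Opens) : S A U →ₗ[Γ(X, U)] Γ(X, U) where
  toFun a := (ofFun (X := X) (U := U)).symm (τ.app U (toG A U a))
  map_add' a b := by rw [map_add, map_add, map_add]
  map_smul' r a := by
    rw [map_smul, Scheme.Modules.Hom.app_smul, RingHom.id_apply]
    rfl

theorem tF_res {U V : X.Opens} (h : V ≤ U) (a : S A U) : tF τ V (resA A h a) = ores h (tF τ U a) := by
  change (ofFun (X := X) (U := V)).symm (τ.app V (toG A V (resA A h a))) = _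
  rw [toG_resA, app_res]
  rfl

theorem tF_algebraMap (hA : FlatMod.IsFinLocFreeOfRank 2 A.toModule) (hτ : FinCov.IsTrace A τ)
    (U : X.Opens) (r : Γ(X, U)) : tF τ U (algebraMap Γ(X, U) (S A U) r) = 2 * r := by
  change (ofFun (X := X) (U := U)).symm (τ.app U (toG A U _)) = _
  rw [tau_algebraMap hA hτ, AddEquiv.symm_apply_apply, Nat.cast_ofNat]

theorem tF_jS (U : X.Opens) (k : Γ(kernel τ, U)) : tF τ U (jS (kernel.ι τ) U k) = 0 := by
  change (ofFun (X := X) (U := U)).symm (τ.app U (toG A U _)) = _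
  rw [tau_jS, map_zero]

theorem isTr_tF (hA : FlatMod.IsFinLocFreeOfRank 2 A.toModule) (hτ : FinCov.IsTrace A τ)
    (U : X.Opens) (a : S A U) : IsTr a (tF τ U a) := by
  have hA' := isFinLocFree hA
  rw [isTrace_iff hA'] at hτ
  exact hτ U a

/-- the square of a local generator of the kernel -/
theorem sq_gen (hA : FlatMod.IsFinLocFreeOfRank 2 A.toModule) (hτ : FinCov.IsTrace A τ)
    (h2 : IsUnit (2 : Γ(X, ⊤))) {V : X.Opens} {e : Γ(kernel τ, V)} (he : IsGen e) :
    ∃ p : Γ(X, V), jS (kernel.ι τ) V e * jS (kernel.ι τ) V e = algebraMap Γ(X, V) (S A V) p := by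
  have hdec : Dec (kernel.ι τ) := dec_kernel hA hτ (by rwa [Nat.cast_ofNat])
  obtain ⟨⟨p, k⟩, hpk⟩ := (hdec V).2 (jS (kernel.ι τ) V e * jS (kernel.ι τ) V e)
  obtain ⟨q, rfl⟩ := he.exists_eq k
  have hpk : algebraMap Γ(X, V) (S A V) p + jS (kernel.ι τ) V (q • e) = _ := hpk
  rw [jS_smul] at hpk
  have h3 := hdec.trace_gen he hpk.symm
  have h4 := isTr_trace ⟨_, _, hdec.isBas he⟩ (jS (kernel.ι τ) V e)
  rw [h3] at h4
  have h5 := h4.unique (isFinLocFree hA) (isTr_tF hA hτ V (jS (kernel.ι τ) V e))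
  rw [tF_jS] at h5
  exact ⟨p, by rw [← hpk, h5, zero_smul, add_zero]⟩

/-- products of sections of the kernel are functions -/
theorem mul_jS (hA : FlatMod.IsFinLocFreeOfRank 2 A.toModule) (hτ : FinCov.IsTrace A τ)
    (h2 : IsUnit (2 : Γ(X, ⊤))) (U : X.Opens) (l l' : Γ(kernel τ, U)) :
    ∃ p : Γ(X, U), jS (kernel.ι τ) U l * jS (kernel.ι τ) U l' = algebraMap Γ(X, U) (S A U) p := by
  have h2' : IsUnit ((2 : ℕ) : Γ(X, ⊤)) := by rwa [Nat.cast_ofNat]
  have hdec : Dec (kernel.ι τ) := dec_kernel hA hτ h2'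
  obtain ⟨⟨p, k⟩, hpk⟩ := (hdec U).2 (jS (kernel.ι τ) U l * jS (kernel.ι τ) U l')
  have hpk : algebraMap Γ(X, U) (S A U) p + jS (kernel.ι τ) U k = _ := hpk
  have hinv : PicF.IsInvertible (kernel τ) := by
    rw [← Groth.Agent.Ega2.QCohLocal.isFinLocFreeOfRank_one_iff]
    exact isFinLocFreeOfRank_kernel hA hτ h2'
  rw [isInvertible_iff] at hinv
  choose W e hW he using hinv
  have key : ∀ (V : X.Opens) (hV : V ≤ U) (e' : Γ(kernel τ, V)), IsGen e' → res (kernel τ) hV k = 0 := by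
    intro V hV e' he'
    obtain ⟨c, hc⟩ := he'.exists_eq (res (kernel τ) hV l)
    obtain ⟨c', hc'⟩ := he'.exists_eq (res (kernel τ) hV l')
    obtain ⟨q, hq⟩ := sq_gen hA hτ h2 he'
    have h1 := congrArg (resA A hV) hpk
    rw [map_mul, map_add, jS_res, jS_res, jS_res, resA_algebraMap, hc, hc', jS_smul, jS_smul,
      smul_mul_smul_comm, hq, Algebra.smul_def, ← map_mul] at h1
    have h6 : ((ores hV p, res (kernel τ) hV k) : Γ(X, V) × Γ(kernel τ, V)) = (c * c' * q, 0) := by
      apply (hdec V).1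
      refine h1.trans ?_
      simp only [jS, map_zero, add_zero]
    exact congrArg Prod.snd h6
  have hk : k = 0 := by
    refine res_ext (kernel τ) (fun x : U => W x.1 ⊓ U) (fun x => inf_le_right) ?_ (fun x => ?_)
    · intro x hx'
      exact Opens.mem_iSup.mpr ⟨⟨x, hx'⟩, hW x, hx'⟩
    · rw [map_zero]
      exact key _ _ _ ((he x.1).res (inf_le_left : W x.1 ⊓ U ≤ W x.1))
  exact ⟨p, by rw [← hpk, hk]; simp only [jS, map_zero, add_zero]⟩


/-- the pairing of the kernel of the trace -/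
noncomputable def pair (v : Γ(X, ⊤)) (U : X.Opens) :
    Γ(kernel τ, U) →ₗ[Γ(X, U)] Γ(kernel τ, U) →ₗ[Γ(X, U)] Γ(Coh.structureModule X, U) :=
  LinearMap.mk₂ Γ(X, U)
    (fun l l' => ofFun (ores le_top v * tF τ U (jS (kernel.ι τ) U l * jS (kernel.ι τ) U l')))
    (fun a b c => by rw [jS_add, add_mul, map_add, mul_add, map_add])
    (fun r a b => by
      rw [jS_smul, smul_mul_assoc, map_smul, smul_eq_mul, mul_left_comm]
      rfl)
    (fun a b c => by rw [jS_add, mul_add, map_add, mul_add, map_add])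
    (fun r a b => by
      rw [jS_smul, mul_smul_comm, map_smul, smul_eq_mul, mul_left_comm]
      rfl)

theorem pair_apply (v : Γ(X, ⊤)) (U : X.Opens) (l l' : Γ(kernel τ, U)) :
    pair v U l l' = ofFun (ores le_top v * tF τ U (jS (kernel.ι τ) U l * jS (kernel.ι τ) U l')) := rfl

theorem pair_res (v : Γ(X, ⊤)) (U V : X.Opens) (i : V ⟶ U) (l l' : Γ(kernel τ, U)) :
    (Coh.structureModule X).presheaf.map i.op (pair v U l l') =
      pair v V ((kernel τ).presheaf.map i.op l) ((kernel τ).presheaf.map i.op l') := by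
  change res (Coh.structureModule X) i.le _ = pair v V (res _ i.le l) (res _ i.le l')
  rw [pair_apply, pair_apply, res_ofFun, map_mul (ores i.le), ores_ores, ← tF_res, map_mul (resA A i.le), jS_res, jS_res]

theorem exists_isDblAlg (hA : FlatMod.IsFinLocFreeOfRank 2 A.toModule) (hτ : FinCov.IsTrace A τ)
    (h2 : IsUnit (2 : Γ(X, ⊤))) :
    ∃ m : CohB1.tensorMod (kernel τ) (kernel τ) ⟶ Coh.structureModule X,
      FinCov.IsDblAlg (kernel τ) m A (kernel.ι τ) := by
  have h2' : IsUnit ((2 : ℕ) : Γ(X, ⊤)) := by rwa [Nat.cast_ofNat]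
  have hdec : Dec (kernel.ι τ) := dec_kernel hA hτ h2'
  obtain ⟨v, hv⟩ := h2.exists_right_inv
  refine ⟨Groth.Agent.Ega2.Tens.lift (pair v) (pair_res v), hdec, fun U l l' => ?_⟩
  · obtain ⟨p, hp⟩ := mul_jS hA hτ h2 U l l'
    have h3 := Groth.Agent.Ega2.Tens.lift_tmul (pair (τ := τ) v) (pair_res v) U l l'
    change jS (kernel.ι τ) U l * jS (kernel.ι τ) U l' = algebraMap Γ(X, U) (S A U) ((ofFun (X := X) (U := U)).symm _)
    refine (hp.trans ?_).trans (congrArg (fun x => algebraMap Γ(X, U) (S A U) ((ofFun (X := X) (U := U)).symm x)) h3.symm)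
    rw [pair_apply, AddEquiv.symm_apply_apply, hp, tF_algebraMap hA hτ, ← mul_assoc]
    have h4 : ores le_top v * (2 : Γ(X, U)) = 1 := by
      have := congrArg (ores (le_top : U ≤ ⊤)) hv
      rw [map_mul, map_one, map_ofNat] at this
      rw [mul_comm, this]
    rw [h4, one_mul]

end K993.Dbl3
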