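import Groth.Agent.FinCov.K993.Dbl3
import Groth.Agent.Pi1A.SheafAlg
import Groth.Agent.CohqB.QC6

/-!
# The algebra `O ⊕ L` of a pairing on an invertible module
-/

set_option autoImplicit false
set_option linter.unusedSectionVars false
universe u

open CategoryTheory CategoryTheory.Limits AlgebraicGeometry Opposite TopologicalSpace
open Groth.Agent.Fdesc.LocGen

namespace K993.ExtAlg

variable {X : Scheme.{u}} {L : X.Modules}

section mod

/-- the underlying module -/
noncomputable abbrev Mo (L : X.Modules) : X.Modules := Coh.structureModule X ⊞ L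

/-- first component -/
noncomputable def fs (U : X.Opens) : Γ(Mo L, U) →ₗ[Γ(X, U)] Γ(X, U) where
  toFun x := (ofFun (X := X) (U := U)).symm ((biprod.fst : Mo L ⟶ _).app U x)
  map_add' a b := by rw [map_add, map_add]
  map_smul' r a := by
    rw [Scheme.Modules.Hom.app_smul, RingHom.id_apply]
    rfl

/-- second component -/
noncomputable def sn (U : X.Opens) : Γ(Mo L, U) →ₗ[Γ(X, U)] Γ(L, U) where
  toFun x := (biprod.snd : Mo L ⟶ _).app U x
  map_add' a b := by rw [map_add]
  map_smul' r a := by rw [Scheme.Modules.Hom.app_smul, RingHom.id_apply]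

/-- first inclusion -/
noncomputable def il (U : X.Opens) : Γ(X, U) →ₗ[Γ(X, U)] Γ(Mo L, U) where
  toFun x := (biprod.inl : _ ⟶ Mo L).app U (ofFun x)
  map_add' a b := by rw [map_add, map_add]
  map_smul' r a := by
    rw [RingHom.id_apply, ← Scheme.Modules.Hom.app_smul]
    rfl

/-- second inclusion -/
noncomputable def ir (U : X.Opens) : Γ(L, U) →ₗ[Γ(X, U)] Γ(Mo L, U) where
  toFun x := (biprod.inr : _ ⟶ Mo L).app U x
  map_add' a b := by rw [map_add]
  map_smul' r a := by rw [Scheme.Modules.Hom.app_smul, RingHom.id_apply]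

variable {U V : X.Opens}

@[simp] theorem fs_il (a : Γ(X, U)) : fs (L := L) U (il U a) = a := by
  have h : (biprod.inl : _ ⟶ Mo L) ≫ biprod.fst = 𝟙 _ := biprod.inl_fst
  exact congrArg (ofFun (X := X) (U := U)).symm congr(($h).app U (ofFun a))

@[simp] theorem fs_ir (a : Γ(L, U)) : fs (L := L) U (ir U a) = 0 := by
  have h : (biprod.inr : _ ⟶ Mo L) ≫ biprod.fst = 0 := biprod.inr_fst
  exact congrArg (ofFun (X := X) (U := U)).symm congr(($h).app U a)

@[simp] theorem sn_il (a : Γ(X, U)) : sn (L := L) U (il U a) = 0 := by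
  have h : (biprod.inl : _ ⟶ Mo L) ≫ biprod.snd = 0 := biprod.inl_snd
  exact congr(($h).app U (ofFun a))

@[simp] theorem sn_ir (a : Γ(L, U)) : sn (L := L) U (ir U a) = a := by
  have h : (biprod.inr : _ ⟶ Mo L) ≫ biprod.snd = 𝟙 _ := biprod.inr_snd
  exact congr(($h).app U a)

theorem total (x : Γ(Mo L, U)) : il U (fs U x) + ir U (sn U x) = x := by
  have h : (biprod.fst : Mo L ⟶ _) ≫ biprod.inl + biprod.snd ≫ biprod.inr = 𝟙 _ := biprod.total
  exact congr(($h).app U x)

theorem ext' {x y : Γ(Mo L, U)} (h1 : fs U x = fs U y) (h2 : sn U x = sn U y) : x = y := by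
  rw [← total x, ← total y, h1, h2]

theorem fs_res (h : V ≤ U) (x : Γ(Mo L, U)) : fs V (res (Mo L) h x) = ores h (fs U x) := by
  change (ofFun (X := X) (U := V)).symm ((biprod.fst : Mo L ⟶ _).app V _) = _
  rw [app_res]
  rfl

theorem sn_res (h : V ≤ U) (x : Γ(Mo L, U)) : sn V (res (Mo L) h x) = res L h (sn U x) :=
  app_res _ h x

end mod

section pairing

variable (m : CohB1.tensorMod L L ⟶ Coh.structureModule X)

/-- the pairing on sections -/
noncomputable def b (U : X.Opens) : Γ(L, U) →ₗ[Γ(X, U)] Γ(L, U) →ₗ[Γ(X, U)] Γ(X, U) :=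
  LinearMap.mk₂ Γ(X, U)
    (fun l l' => (ofFun (X := X) (U := U)).symm (m.app U (Groth.Agent.Ega2.Tens.tmul l l')))
    (fun a b c => by rw [Groth.Agent.Ega2.Tens.add_tmul, map_add, map_add])
    (fun r a b => by
      rw [Groth.Agent.Ega2.Tens.smul_tmul, Scheme.Modules.Hom.app_smul]
      rfl)
    (fun a b c => by rw [Groth.Agent.Ega2.Tens.tmul_add, map_add, map_add])
    (fun r a b => by
      rw [Groth.Agent.Ega2.Tens.tmul_smul, Scheme.Modules.Hom.app_smul]
      rfl)

variable {U V : X.Opens}

theorem b_res (h : V ≤ U) (l l' : Γ(L, U)) : b m V (res L h l) (res L h l') = ores h (b m U l l') := by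
  change (ofFun (X := X) (U := V)).symm (m.app V (Groth.Agent.Ega2.Tens.tmul (res L h l) (res L h l'))) = _
  have := Groth.Agent.Ega2.Tens.tmul_res (M := L) (N := L) (homOfLE h) l l'
  rw [show Groth.Agent.Ega2.Tens.tmul (res L h l) (res L h l') =
    res (CohB1.tensorMod L L) h (Groth.Agent.Ega2.Tens.tmul l l') from this.symm, app_res]
  rfl

variable (hL : PicF.IsInvertible L)
include hL

theorem local_check {P : X.Opens → Prop} (h : ∀ (V : X.Opens) (_ : V ≤ U) (e : Γ(L, V)), IsGen e → P V) :
    ∃ W : U → X.Opens, (∀ x, W x ≤ U) ∧ U ≤ (⨆ x, W x) ∧ ∀ x, P (W x) := by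
  rw [isInvertible_iff] at hL
  choose W e hW he using hL
  refine ⟨fun x => W x.1 ⊓ U, fun x => inf_le_right, ?_, fun x => ?_⟩
  · intro x hx'
    exact Opens.mem_iSup.mpr ⟨⟨x, hx'⟩, hW x, hx'⟩
  · exact h _ inf_le_right _ ((he x.1).res (inf_le_left : W x.1 ⊓ U ≤ W x.1))

theorem b_comm (l l' : Γ(L, U)) : b m U l l' = b m U l' l := by
  obtain ⟨W, hW, hcov, h⟩ := local_check (U := U) hL
    (P := fun V => ∀ hV : V ≤ U, ores hV (b m U l l') = ores hV (b m U l' l)) (by
    intro V _ e he hV
    rw [← b_res, ← b_res]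
    obtain ⟨c, hc⟩ := he.exists_eq (res L hV l)
    obtain ⟨c', hc'⟩ := he.exists_eq (res L hV l')
    rw [hc, hc']
    simp only [map_smul, LinearMap.smul_apply, smul_eq_mul]
    ring)
  exact ores_ext W hW hcov fun x => h x (hW x)

theorem b_smul (l l' l'' : Γ(L, U)) : b m U l l' • l'' = b m U l' l'' • l := by
  obtain ⟨W, hW, hcov, h⟩ := local_check (U := U) hL
    (P := fun V => ∀ hV : V ≤ U, res L hV (b m U l l' • l'') = res L hV (b m U l' l'' • l)) (by
    intro V _ e he hV
    rw [res_smul, res_smul, ← b_res, ← b_res]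
    obtain ⟨c, hc⟩ := he.exists_eq (res L hV l)
    obtain ⟨c', hc'⟩ := he.exists_eq (res L hV l')
    obtain ⟨c'', hc''⟩ := he.exists_eq (res L hV l'')
    rw [hc, hc', hc'']
    simp only [map_smul, LinearMap.smul_apply, smul_eq_mul, smul_smul]
    congr 1
    ring)
  exact res_ext L W hW hcov fun x => h x (hW x)

end pairing

open Groth.Agent.Pi1A.SheafAlg

/-- multiplication -/
noncomputable def mul (m : CohB1.tensorMod L L ⟶ Coh.structureModule X) (U : X.Opens) :
    Γ(Mo L, U) →ₗ[Γ(X, U)] Γ(Mo L, U) →ₗ[Γ(X, U)] Γ(Mo L, U) :=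
  LinearMap.mk₂ Γ(X, U)
    (fun x y => il U (fs U x * fs U y + b m U (sn U x) (sn U y)) + ir U (fs U x • sn U y + fs U y • sn U x))
    (fun x y z => by
      apply ext'
      · simp only [map_add, fs_il, fs_ir, LinearMap.add_apply]; ring
      · simp only [map_add, sn_il, sn_ir, add_smul, smul_add]; abel)
    (fun r x y => by
      apply ext'
      · simp only [map_add, map_smul, fs_il, fs_ir, LinearMap.smul_apply, smul_eq_mul]; ring
      · simp only [map_add, map_smul, sn_il, sn_ir, smul_eq_mul, smul_add, smul_smul]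
        rw [mul_comm r (fs U y)]
        simp)
    (fun x y z => by
      apply ext'
      · simp only [map_add, fs_il, fs_ir]; ring
      · simp only [map_add, sn_il, sn_ir, add_smul, smul_add]; abel)
    (fun r x y => by
      apply ext'
      · simp only [map_add, map_smul, fs_il, fs_ir, smul_eq_mul]; ring
      · simp only [map_add, map_smul, sn_il, sn_ir, smul_eq_mul, smul_add, smul_smul]
        rw [mul_comm r (fs U x)]
        simp)

section

variable (m : CohB1.tensorMod L L ⟶ Coh.structureModule X) {U : X.Opens}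

@[simp] theorem fs_mul (x y : Γ(Mo L, U)) : fs U (mul m U x y) = fs U x * fs U y + b m U (sn U x) (sn U y) := by
  change fs U (il U _ + ir U _) = _
  rw [map_add, fs_il, fs_ir, add_zero]

@[simp] theorem sn_mul (x y : Γ(Mo L, U)) : sn U (mul m U x y) = fs U x • sn U y + fs U y • sn U x := by
  change sn U (il U _ + ir U _) = _
  rw [map_add, sn_il, sn_ir, zero_add]

end

/-- the algebra structure -/
noncomputable def algStr (hL : PicF.IsInvertible L) (m : CohB1.tensorMod L L ⟶ Coh.structureModule X) :
    AlgStr (Mo L) where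
  mul := mul m
  one U := il U 1
  mul_res U V i x y := by
    change res (Mo L) i.le _ = mul m V (res (Mo L) i.le x) (res (Mo L) i.le y)
    apply ext'
    · simp only [fs_res, fs_mul, sn_res, b_res, map_add, map_mul]
    · simp only [sn_res, sn_mul, fs_res, map_add, res_smul]
  one_res U V i := by
    change res (Mo L) i.le _ = _
    apply ext'
    · simp only [fs_res, fs_il, map_one]
    · simp only [sn_res, sn_il, map_zero]
  comm U x y := by
    apply ext'
    · simp only [fs_mul]
      rw [b_comm m hL, mul_comm]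
    · simp only [sn_mul]
      rw [add_comm]
  assoc U x y z := by
    apply ext'
    · simp only [fs_mul, sn_mul, map_add, LinearMap.add_apply, map_smul, LinearMap.smul_apply, smul_eq_mul]
      ring
    · simp only [fs_mul, sn_mul, add_smul]
      rw [b_smul m hL (sn U x) (sn U y) (sn U z)]
      module
  one_mul U x := by
    apply ext'
    · simp only [fs_mul, fs_il, sn_il, map_zero, LinearMap.zero_apply, one_mul, add_zero]
    · simp only [sn_mul, fs_il, sn_il, one_smul, smul_zero, add_zero]

/-- the quasi-coherent algebra of an algebra structure -/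
noncomputable def toQCAlg {M : X.Modules} (S : AlgStr M) (hM : Coh.IsQCoh M) : RelSpec.QCAlg X where
  presheaf := S.functor
  isSheaf := by
    refine (TopCat.Presheaf.isSheaf_iff_isSheaf_comp (forget CommRingCat) _).mpr ?_
    exact (TopCat.Presheaf.isSheaf_iff_isSheaf_comp (forget AddCommGrpCat) M.presheaf).mp M.isSheaf
  str := S.α
  isQC U hU r := S.isLocalization_resHom hM hU r

section result

variable (hL : PicF.IsInvertible L) (m : CohB1.tensorMod L L ⟶ Coh.structureModule X)

/-- the algebra `O ⊕ L` -/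
noncomputable def alg : RelSpec.QCAlg X :=
  toQCAlg (algStr hL m) (Groth.Agent.CohqB.QC6.isQCoh_biprod
    (Groth.Agent.Ega2.QCohLocal.isQCoh_structureModule X) (Groth.Agent.Ega2.QCohLocal.isQCoh_of_isInvertible hL))

/-- sections of the module are sections of the algebra -/
noncomputable def toA (U : X.Opens) : Γ(Mo L, U) ≃+ Γ((alg hL m).toModule, U) := AddEquiv.refl _

theorem toA_res {U V : X.Opens} (h : V ≤ U) (x : Γ(Mo L, U)) :
    toA hL m V (res _ h x) = res _ h (toA hL m U x) := rfl

theorem toA_smul {U : X.Opens} (r : Γ(X, U)) (x : Γ(Mo L, U)) : toA hL m U (r • x) = r • toA hL m U x := by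
  have h1 : mul m U (r • il U 1) x = r • x := by
    rw [map_smul, LinearMap.smul_apply]
    congr 1
    exact (algStr hL m).one_mul U x
  have h2 : algebraMap Γ(X, U) ((algStr hL m).Sec U) r = (r • (il U 1 : Γ(Mo L, U)) : Γ(Mo L, U)) :=
    (algStr hL m).α_app U r
  change _ = (show (algStr hL m).Sec U from algebraMap Γ(X, U) ((algStr hL m).Sec U) r) *
    (show (algStr hL m).Sec U from x)
  rw [AlgStr.mul_def, h2]
  exact h1.symm

/-- the inclusion -/
noncomputable def j : L ⟶ (alg hL m).toModule :=
  mkHom (fun U => (toA hL m U).toAddMonoidHom.comp (ir U).toAddMonoidHom)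
    (fun U a l => by
      change toA hL m U (ir U (a • l)) = a • toA hL m U (ir U l)
      rw [map_smul, toA_smul])
    (fun U V h l => by
      change toA hL m V (ir V (res L h l)) = res _ h (toA hL m U (ir U l))
      rw [← toA_res]
      congr 1
      apply ext'
      · rw [fs_ir, fs_res, fs_ir, map_zero]
      · rw [sn_ir, sn_res, sn_ir])

theorem isDblAlg : FinCov.IsDblAlg L m (alg hL m) (j hL m) := by
  have hstr : ∀ (U : X.Opens) (r : Γ(X, U)), (((alg hL m).str.app (op U)).hom r : (algStr hL m).Sec U) =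
      (il U r : Γ(Mo L, U)) := by
    intro U r
    have h2 : (((alg hL m).str.app (op U)).hom r : (algStr hL m).Sec U) = (r • (il U 1 : Γ(Mo L, U)) : Γ(Mo L, U)) :=
      (algStr hL m).α_app U r
    rw [h2, ← map_smul, smul_eq_mul, mul_one]
  constructor
  · intro U
    have : (fun p : Γ(X, U) × L.val.obj (op U) => (((alg hL m).str.app (op U)).hom p.1 +
        FinCov.toSec (alg hL m) (((j hL m).val.app (op U)).hom p.2) : (algStr hL m).Sec U)) =
        fun p : Γ(X, U) × L.val.obj (op U) => (il U p.1 + ir U p.2 : Γ(Mo L, U)) := by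
      funext p
      exact congrArg (fun x : Γ(Mo L, U) => (x + ir U p.2 : Γ(Mo L, U))) (hstr U p.1)
    change Function.Bijective (fun p : Γ(X, U) × L.val.obj (op U) => (((alg hL m).str.app (op U)).hom p.1 +
        FinCov.toSec (alg hL m) (((j hL m).val.app (op U)).hom p.2) : (algStr hL m).Sec U))
    rw [this]
    constructor
    · rintro ⟨s, l⟩ ⟨s', l'⟩ h
      have h : (il U s + ir U l : Γ(Mo L, U)) = il U s' + ir U l' := h
      have h1 := congrArg (fs U) h
      have h2 := congrArg (sn U) h
      simp only [map_add, fs_il, fs_ir, sn_il, sn_ir, add_zero, zero_add] at h1 h2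
      rw [h1, h2]
    · intro x
      exact ⟨(fs U x, sn U x), total x⟩
  · intro U l l'
    refine Eq.trans ?_ (hstr U _).symm
    change mul m U (ir U l) (ir U l') = _
    apply ext'
    · rw [fs_mul, fs_ir, zero_mul, zero_add, sn_ir, sn_ir, fs_il]
      rfl
    · rw [sn_mul, fs_ir, fs_ir, zero_smul, zero_smul, add_zero, sn_il]

end result

end K993.ExtAlg
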