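import Groth.Prelude.Def_ClSub2
import Groth.Agent.FlatA.SteinConn
import Groth.Agent.VarietyA.H0Equiv
import Groth.Agent.VarietyA.GlobalSections
import Groth.Agent.PerfB.UnitMono
import Groth.Agent.Smoothlim.ModKer

/-!
# Finite flat covers of geometrically connected schemes
-/

set_option autoImplicit false
set_option linter.unusedSectionVars false
universe u

open CategoryTheory CategoryTheory.Limits AlgebraicGeometry Opposite TopologicalSpace

namespace K993.GeomConn

variable {X Y : Scheme.{u}} (ρ : X ⟶ Y)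

theorem app_unitToPush (U : Y.Opens) (s : Γ(Y, U)) :
    (ClSub.unitToPush ρ).app U (show Γ(Coh.structureModule Y, U) from s) =
      (show Γ((Scheme.Modules.pushforward ρ).obj (Coh.structureModule X), U) from ρ.app U s) := rfl

instance mono_unitToPush [Flat ρ] [Surjective ρ] : Mono (ClSub.unitToPush ρ) :=
  Groth.Agent.Smoothlim.ModKer.mono_of_app_injective _ fun U => Groth.Agent.PerfB.UnitMono.app_injective ρ U

theorem appTop_bijective [Flat ρ] [Surjective ρ]
    (h0 : Subsingleton (Coh.HH Y (cokernel (ClSub.unitToPush ρ)) 0)) : Function.Bijective ρ.appTop := by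
  refine ⟨Groth.Agent.PerfB.UnitMono.app_injective ρ ⊤, fun t => ?_⟩
  let t' : Γ((Scheme.Modules.pushforward ρ).obj (Coh.structureModule X), ⊤) := t
  have h1 : Subsingleton ((cokernel (ClSub.unitToPush ρ)).val.obj (op (⊤ : Opens Y))) :=
    (Groth.Agent.VarietyA.H0Equiv.hZeroEquiv (cokernel (ClSub.unitToPush ρ))).symm.toEquiv.subsingleton
  have h2 : (cokernel.π (ClSub.unitToPush ρ)).app ⊤ t' = 0 := h1.elim _ _
  obtain ⟨y, hy⟩ := Groth.Agent.Smoothlim.ModKer.exists_of_app_eq_zero _ ⊤ t' h2
  let g : kernel (cokernel.π (ClSub.unitToPush ρ)) ⟶ Coh.structureModule Y :=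
    (Abelian.monoIsKernelOfCokernel _ (cokernelIsCokernel (ClSub.unitToPush ρ))).lift
      (KernelFork.ofι (kernel.ι (cokernel.π (ClSub.unitToPush ρ))) (kernel.condition _))
  have hg : g ≫ ClSub.unitToPush ρ = kernel.ι (cokernel.π (ClSub.unitToPush ρ)) :=
    (Abelian.monoIsKernelOfCokernel _ (cokernelIsCokernel (ClSub.unitToPush ρ))).fac
      (KernelFork.ofι (kernel.ι (cokernel.π (ClSub.unitToPush ρ))) (kernel.condition _)) WalkingParallelPair.zero
  refine ⟨(g.app ⊤ y : Γ(Coh.structureModule Y, ⊤)), ?_⟩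
  have h3 : (ClSub.unitToPush ρ).app ⊤ (g.app ⊤ y) = t' := by
    rw [← hy, ← hg]
    rfl
  exact h3

theorem isIso_appTop_of_finrank {k : Type u} [Field k] (g : Y ⟶ Spec (CommRingCat.of k)) [IsProper g]
    [GeometricallyConnected g] [GeometricallyReduced g] : IsIso g.appTop := by
  let _ : Algebra k Γ(Y, ⊤) := (Groth.Agent.VarietyA.GlobalSections.gl g).hom.toAlgebra
  have h := Groth.Agent.VarietyA.GlobalSections.finrank_global k Y g
  have h2 : Nontrivial Γ(Y, ⊤) := by
    by_contra hn
    rw [not_nontrivial_iff_subsingleton] at hn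
    rw [Module.finrank_zero_of_subsingleton] at h
    omega
  have h3 : Function.Bijective (algebraMap k Γ(Y, ⊤)) := by
    refine ⟨(algebraMap k Γ(Y, ⊤)).injective, fun y => ?_⟩
    obtain ⟨c, hc⟩ := (finrank_eq_one_iff_of_nonzero' (1 : Γ(Y, ⊤)) one_ne_zero).1 h y
    exact ⟨c, by rw [Algebra.algebraMap_eq_smul_one, hc]⟩
  have h4 : IsIso ((Scheme.ΓSpecIso (CommRingCat.of k)).inv ≫ g.appTop) := by
    rw [ConcreteCategory.isIso_iff_bijective]
    exact h3
  exact IsIso.of_isIso_comp_left (Scheme.ΓSpecIso (CommRingCat.of k)).inv g.appTop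

theorem geometricallyConnected {k : Type u} [Field k] (g : Y ⟶ Spec (CommRingCat.of k))
    [IsProper g] [GeometricallyConnected g] [GeometricallyReduced g]
    [IsFinite ρ] [Flat ρ] [Surjective ρ]
    (h0 : Subsingleton (Coh.HH Y (cokernel (ClSub.unitToPush ρ)) 0)) :
    GeometricallyConnected (ρ ≫ g) := by
  have h1 := isIso_appTop_of_finrank g
  have h2 : IsIso ρ.appTop := by
    rw [ConcreteCategory.isIso_iff_bijective]
    exact appTop_bijective ρ h0
  have h3 : IsIso (ρ ≫ g).appTop := by
    rw [Scheme.Hom.comp_appTop]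
    infer_instance
  exact Groth.Agent.FlatA.SteinConn.geometricallyConnected_of_isIso_appTop (ρ ≫ g)

end K993.GeomConn
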