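import Groth.Prelude.Def_FinCov
import Groth.Agent.Ega2.BasSec
import Mathlib.RingTheory.Trace.Basic

/-!
# Section calculus of quasi-coherent algebras

`S A U`: the sections of `A : RelSpec.QCAlg X` over `U` as a `Γ(X, U)`-algebra; bases; traces and restriction.
-/

set_option autoImplicit false
set_option linter.unusedSectionVars false
universe u

open CategoryTheory CategoryTheory.Limits AlgebraicGeometry Opposite TopologicalSpace
open Groth.Agent.Fdesc.LocGen Groth.Agent.Ega2.BasSec

namespace K993.QAlg

variable {X : Scheme.{u}} (A : RelSpec.QCAlg X)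

/-- sections over `U`, as a ring -/
def S (U : X.Opens) : Type u := A.presheaf.obj (op U)

noncomputable instance (U : X.Opens) : CommRing (S A U) := inferInstanceAs (CommRing (A.presheaf.obj (op U)))

noncomputable instance (U : X.Opens) : Algebra Γ(X, U) (S A U) := (A.str.app (op U)).hom.toAlgebra

/-- sections of the module are sections of the algebra -/
noncomputable def toG (U : X.Opens) : S A U ≃ₗ[Γ(X, U)] Γ(A.toModule, U) where
  toFun a := a
  invFun a := a
  left_inv _ := rfl
  right_inv _ := rfl
  map_add' _ _ := rfl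
  map_smul' _ _ := rfl

theorem algebraMap_eq (U : X.Opens) (r : Γ(X, U)) :
    algebraMap Γ(X, U) (S A U) r = (A.str.app (op U)).hom r := rfl

/-- restriction -/
noncomputable def resA {U V : X.Opens} (h : V ≤ U) : S A U →+* S A V := (A.presheaf.map (homOfLE h).op).hom

theorem toG_resA {U V : X.Opens} (h : V ≤ U) (a : S A U) :
    toG A V (resA A h a) = res A.toModule h (toG A U a) := rfl

@[simp] theorem resA_refl {U : X.Opens} (a : S A U) : resA A (le_refl U) a = a := by
  apply (toG A U).injective
  rw [toG_resA, res_refl]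

@[simp] theorem resA_resA {U V W : X.Opens} (h : V ≤ U) (h' : W ≤ V) (a : S A U) :
    resA A h' (resA A h a) = resA A (h'.trans h) a := by
  apply (toG A W).injective
  rw [toG_resA, toG_resA, toG_resA, res_res]

theorem resA_smul {U V : X.Opens} (h : V ≤ U) (r : Γ(X, U)) (a : S A U) :
    resA A h (r • a) = ores h r • resA A h a := by
  apply (toG A V).injective
  rw [toG_resA, map_smul, res_smul, map_smul, toG_resA]

theorem resA_algebraMap {U V : X.Opens} (h : V ≤ U) (r : Γ(X, U)) :
    resA A h (algebraMap Γ(X, U) (S A U) r) = algebraMap Γ(X, V) (S A V) (ores h r) := by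
  rw [Algebra.algebraMap_eq_smul_one, resA_smul, map_one, Algebra.algebraMap_eq_smul_one]

theorem resA_ext {ι : Type*} {V : X.Opens} (U : ι → X.Opens) (hU : ∀ i, U i ≤ V)
    (hcover : V ≤ ⨆ i, U i) {a b : S A V} (h : ∀ i, resA A (hU i) a = resA A (hU i) b) : a = b := by
  apply (toG A V).injective
  apply res_ext A.toModule U hU hcover
  intro i
  rw [← toG_resA, ← toG_resA, h i]

theorem resA_glue {ι : Type*} {V : X.Opens} (U : ι → X.Opens) (hU : ∀ i, U i ≤ V)
    (hcover : V ≤ ⨆ i, U i) (s : ∀ i, S A (U i))
    (h : ∀ i j, resA A (inf_le_left : U i ⊓ U j ≤ U i) (s i) = resA A inf_le_right (s j)) :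
    ∃ t : S A V, ∀ i, resA A (hU i) t = s i :=
  res_glue A.toModule U hU hcover s h

variable {A}
variable {n : ℕ}

/-- the basis of the algebra of sections given by a basis of the module -/
theorem exists_basis {U : X.Opens} {e : Fin n → Γ(A.toModule, U)} (he : IsBas e) {V : X.Opens} (h : V ≤ U) :
    ∃ b : Module.Basis (Fin n) Γ(X, V) (S A V), ∀ i, b i = resA A h ((toG A U).symm (e i)) := by
  obtain ⟨b, hb⟩ := (comb_bijective_iff _).1 (he V h)
  refine ⟨b.map (toG A V).symm, fun i => ?_⟩
  rw [Module.Basis.map_apply, hb]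
  rfl

theorem repr_res {U V : X.Opens} (h : V ≤ U) {ι : Type*} [Fintype ι] (b : Module.Basis ι Γ(X, U) (S A U))
    (b' : Module.Basis ι Γ(X, V) (S A V)) (hb : ∀ i, b' i = resA A h (b i)) (a : S A U) (i : ι) :
    b'.repr (resA A h a) i = ores h (b.repr a i) := by
  conv_lhs => rw [← b.sum_repr a]
  rw [map_sum, map_sum]
  simp only [resA_smul, ← hb, map_smul, Module.Basis.repr_self]
  rw [Finset.sum_apply']
  classical
  rw [Finset.sum_eq_single i]
  · simp
  · intro j _ hj
    simp [hj]
  · intro hi; exact absurd (Finset.mem_univ i) hi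

/-- the trace is compatible with restriction -/
theorem trace_res' {U V : X.Opens} (h : V ≤ U) {ι : Type*} [Fintype ι] [DecidableEq ι]
    (b : Module.Basis ι Γ(X, U) (S A U))
    (b' : Module.Basis ι Γ(X, V) (S A V)) (hb : ∀ i, b' i = resA A h (b i)) (a : S A U) :
    Algebra.trace Γ(X, V) (S A V) (resA A h a) = ores h (Algebra.trace Γ(X, U) (S A U) a) := by
  rw [Algebra.trace_eq_matrix_trace b, Algebra.trace_eq_matrix_trace b', Matrix.trace, Matrix.trace, map_sum]
  apply Finset.sum_congr rfl
  intro i _
  rw [Matrix.diag_apply, Matrix.diag_apply, Algebra.leftMulMatrix_eq_repr_mul,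
    Algebra.leftMulMatrix_eq_repr_mul, hb, ← map_mul, repr_res h b b' hb]

theorem trace_res {U V W : X.Opens} {e : Fin n → Γ(A.toModule, U)} (he : IsBas e) (hV : V ≤ U) (h : W ≤ V)
    (a : S A V) :
    Algebra.trace Γ(X, W) (S A W) (resA A h a) = ores h (Algebra.trace Γ(X, V) (S A V) a) := by
  obtain ⟨b, hb⟩ := exists_basis he hV
  obtain ⟨b', hb'⟩ := exists_basis he (h.trans hV)
  exact trace_res' h b b' (fun i => by rw [hb, hb', resA_resA]) a

end K993.QAlg
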