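import Groth.Agent.FinCov.K993.Trace

/-!
# The trace of an algebra of rank `d`; splitting when `d` is invertible
-/

set_option autoImplicit false
set_option linter.unusedSectionVars false
universe u

open CategoryTheory CategoryTheory.Limits AlgebraicGeometry Opposite TopologicalSpace
open Groth.Agent.Fdesc.LocGen Groth.Agent.Ega2.BasSec K993.QAlg K993.Trace

namespace K993.Rank

variable {X : Scheme.{u}} {A : RelSpec.QCAlg X} {d : ℕ}

theorem isFinLocFree (hA : FlatMod.IsFinLocFreeOfRank d A.toModule) : FlatMod.IsFinLocFree A.toModule :=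
  Groth.Agent.Ega2.QCohLocal.isFinLocFree_of_rank hA

theorem isTr_algebraMap (hA : FlatMod.IsFinLocFreeOfRank d A.toModule) {U : X.Opens} (r : Γ(X, U)) :
    IsTr (algebraMap Γ(X, U) (S A U) r) (d • r) := by
  intro V hV hb
  rw [resA_algebraMap, map_nsmul]
  generalize ores hV r = r'
  rw [isFinLocFreeOfRank_iff] at hA
  choose W e hx he using hA
  refine ores_ext (fun x : V => W x.1 ⊓ V) (fun x => inf_le_right) ?_ (fun x => ?_)
  · intro x hx'
    exact Opens.mem_iSup.mpr ⟨⟨x, hx'⟩, hx x, hx'⟩
  · rw [← hb.trace_res, resA_algebraMap, map_nsmul]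
    obtain ⟨b, -⟩ := exists_basis (he x.1) (inf_le_left : W x.1 ⊓ V ≤ W x.1)
    rw [Algebra.trace_algebraMap_of_basis b, Fintype.card_fin]

theorem strMod_app (U : X.Opens) (r : Γ(X, U)) :
    (FinCov.strMod A).app U (ofFun r) = toG A U (algebraMap Γ(X, U) (S A U) r) := rfl

theorem strMod_comp (hA : FlatMod.IsFinLocFreeOfRank d A.toModule)
    {τ : A.toModule ⟶ Coh.structureModule X} (hτ : FinCov.IsTrace A τ) :
    FinCov.strMod A ≫ τ = d • 𝟙 (Coh.structureModule X) := by
  have hA' := isFinLocFree hA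
  rw [isTrace_iff hA'] at hτ
  apply Scheme.Modules.hom_ext
  intro U
  ext r
  obtain ⟨r, rfl⟩ := (ofFun (X := X) (U := U)).surjective r
  have h1 := (hτ U (algebraMap Γ(X, U) (S A U) r)).unique hA' (isTr_algebraMap hA r)
  have h2 : τ.app U (toG A U (algebraMap Γ(X, U) (S A U) r)) = ofFun (d • r) := by
    rw [← h1]; rfl
  change τ.app U ((FinCov.strMod A).app U (ofFun r)) = _
  rw [strMod_app, h2]
  have h3 : ∀ k : ℕ, (k • 𝟙 (Coh.structureModule X) : Coh.structureModule X ⟶ _).app U (ofFun r) = ofFun (k • r) := by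
    intro k
    induction k with
    | zero => simp
    | succ k ih =>
      rw [succ_nsmul, succ_nsmul, map_add, ← ih]
      rfl
  exact (h3 d).symm

end K993.Rank
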