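import Mathlib.RingTheory.Spectrum.Prime.FreeLocus
import Mathlib.RingTheory.Flat.EquationalCriterion

/-!
# Complements of a free line in a projective module
-/

set_option autoImplicit false
universe u v w

namespace K993.Retr

theorem complement {R : Type u} [CommRing R] {K : Type v} [AddCommGroup K] [Module R K] {M : Type w}
    [AddCommGroup M] [Module R M] (e : (R × K) ≃ₗ[R] M) {d : ℕ} (h1 : Module.FinitePresentation R M)
    (h2 : Module.Flat R M) (h3 : ∀ p, Module.rankAtStalk (R := R) M p = d) :
    Module.FinitePresentation R K ∧ Module.Flat R K ∧ ∀ p, Module.rankAtStalk (R := R) K p = d - 1 := by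
  have h4 : Module.Projective R M := Module.Flat.projective_of_finitePresentation
  have h5 : Module.Projective R K := Module.Projective.of_split
    (e.toLinearMap.comp (LinearMap.inr R R K)) ((LinearMap.snd R R K).comp e.symm.toLinearMap) (by
      ext k; simp)
  have h6 : Module.Finite R K := Module.Finite.of_surjective
    ((LinearMap.snd R R K).comp e.symm.toLinearMap)
    ((LinearMap.snd_surjective (R := R) (M := R) (M₂ := K)).comp e.symm.surjective)
  have h7 : Module.FinitePresentation R K := Module.finitePresentation_of_projective R K
  have h10 : Module.Flat R K := Module.Flat.of_projective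
  refine ⟨h7, h10, fun p => ?_⟩
  have : Nontrivial R := PrimeSpectrum.nontrivial p
  have h8 := Module.rankAtStalk_eq_of_equiv e
  rw [Module.rankAtStalk_prod, Module.rankAtStalk_self] at h8
  have h9 := congrFun h8 p
  rw [Pi.add_apply, Pi.one_apply, h3] at h9
  omega

end K993.Retr
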