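import Groth.Agent.FinCov.K993.Dbl2
import Groth.Agent.FinCov.K993.LocFree
import Groth.Agent.FinCov.K993.Retr
import Groth.Agent.PerfA.QCohSerre
import Groth.Agent.Smoothlim.ModKer

/-!
# The kernel of the trace of an algebra of invertible rank
-/

set_option autoImplicit false
set_option linter.unusedSectionVars false
universe u

open CategoryTheory CategoryTheory.Limits AlgebraicGeometry Opposite TopologicalSpace
open Groth.Agent.Fdesc.LocGen Groth.Agent.Ega2.BasSec K993.QAlg K993.Trace K993.Rank K993.Dbl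

namespace K993.Split

variable {X : Scheme.{u}} {A : RelSpec.QCAlg X} {d : ℕ} {τ : A.toModule ⟶ Coh.structureModule X}

theorem exists_inv {U : X.Opens} (hd : IsUnit (d : Γ(X, ⊤))) : ∃ v : Γ(X, U), (d : Γ(X, U)) * v = 1 := by
  have := hd.map (ores (le_top : U ≤ ⊤))
  rw [map_natCast] at this
  exact this.exists_right_inv

theorem isSplitEpi (hA : FlatMod.IsFinLocFreeOfRank d A.toModule) (hτ : FinCov.IsTrace A τ)
    (hd : IsUnit (d : Γ(X, ⊤))) : IsSplitEpi τ := by
  obtain ⟨v, hv⟩ := exists_inv (U := ⊤) hd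
  refine IsSplitEpi.mk' ⟨homOf (ofFun v) ≫ FinCov.strMod A, ?_⟩
  rw [Category.assoc, strMod_comp hA hτ]
  apply hom_ext_sec
  have h3 : ∀ k : ℕ, (homOf (ofFun v) ≫ (k • 𝟙 (Coh.structureModule X))) =
      homOf (ofFun ((k : Γ(X, ⊤)) * v)) := by
    intro k
    induction k with
    | zero =>
      apply hom_ext_sec
      rw [zero_smul, comp_zero, sec_homOf, Nat.cast_zero, zero_mul, map_zero, map_zero]
      rfl
    | succ k ih =>
      rw [succ_nsmul, Preadditive.comp_add, ih, Category.comp_id, Nat.cast_succ, add_mul, one_mul, map_add]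
      apply hom_ext_sec
      rw [sec_homOf, map_add]
      have : ∀ f g : Coh.structureModule X ⟶ Coh.structureModule X, sec (f + g) ⊤ = sec f ⊤ + sec g ⊤ :=
        fun _ _ => rfl
      rw [this, sec_homOf, sec_homOf]
  rw [h3, sec_homOf, hv, res_ofFun, map_one]
  rfl

/-- value of the trace of a function -/
theorem tau_algebraMap (hA : FlatMod.IsFinLocFreeOfRank d A.toModule) (hτ : FinCov.IsTrace A τ)
    (U : X.Opens) (r : Γ(X, U)) : τ.app U (toG A U (algebraMap Γ(X, U) (S A U) r)) =
      ofFun ((d : Γ(X, U)) * r) := by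
  have hA' := isFinLocFree hA
  rw [isTrace_iff hA'] at hτ
  have h1 := (hτ U (algebraMap Γ(X, U) (S A U) r)).unique hA' (isTr_algebraMap hA r)
  rw [← nsmul_eq_mul, ← h1]
  rfl

theorem tau_jS (U : X.Opens) (k : Γ(kernel τ, U)) : τ.app U (toG A U (jS (kernel.ι τ) U k)) = 0 := by
  have := kernel.condition τ
  exact congr(($this).app U k)

theorem jS_injective (U : X.Opens) : Function.Injective (jS (kernel.ι τ) U) :=
  (toG A U).symm.injective.comp (Groth.Agent.Smoothlim.ModKer.app_injective_of_mono (kernel.ι τ) U)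

theorem exists_jS {U : X.Opens} {a : S A U} (h : τ.app U (toG A U a) = 0) :
    ∃ k : Γ(kernel τ, U), jS (kernel.ι τ) U k = a := by
  obtain ⟨k, hk⟩ := Groth.Agent.Smoothlim.ModKer.exists_of_app_eq_zero τ U (toG A U a) h
  refine ⟨k, ?_⟩
  unfold jS
  rw [hk]
  rfl

theorem dec_kernel (hA : FlatMod.IsFinLocFreeOfRank d A.toModule) (hτ : FinCov.IsTrace A τ)
    (hd : IsUnit (d : Γ(X, ⊤))) : Dec (kernel.ι τ) := by
  intro U
  obtain ⟨v, hv⟩ := exists_inv (U := U) hd
  have key : ∀ (s : Γ(X, U)) (k : Γ(kernel τ, U)),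
      τ.app U (toG A U (algebraMap Γ(X, U) (S A U) s + jS (kernel.ι τ) U k)) = ofFun ((d : Γ(X, U)) * s) := by
    intro s k
    rw [map_add, map_add, tau_algebraMap hA hτ, tau_jS, add_zero]
  constructor
  · rintro ⟨s, k⟩ ⟨s', k'⟩ h
    have h : algebraMap Γ(X, U) (S A U) s + jS (kernel.ι τ) U k =
      algebraMap Γ(X, U) (S A U) s' + jS (kernel.ι τ) U k' := h
    have h1 := congrArg (fun a => τ.app U (toG A U a)) h
    simp only [key] at h1
    have h2 : (d : Γ(X, U)) * s = d * s' := (ofFun (X := X) (U := U)).injective h1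
    have h3 : s = s' := by
      calc s = v * ((d : Γ(X, U)) * s) := by rw [← mul_assoc, mul_comm v, hv, one_mul]
        _ = v * ((d : Γ(X, U)) * s') := by rw [h2]
        _ = s' := by rw [← mul_assoc, mul_comm v, hv, one_mul]
    subst h3
    rw [jS_injective U (add_left_cancel h)]
  · intro a
    obtain ⟨t, ht⟩ := (ofFun (X := X) (U := U)).surjective (τ.app U (toG A U a))
    have h1 : τ.app U (toG A U (a - algebraMap Γ(X, U) (S A U) (v * t))) = 0 := by
      rw [map_sub, map_sub, tau_algebraMap hA hτ, ← mul_assoc, hv, one_mul, ht, sub_self]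
    obtain ⟨k, hk⟩ := exists_jS h1
    exact ⟨(v * t, k), by simp only [hk]; ring⟩

/-- the decomposition as a linear equivalence -/
noncomputable def equiv {L : X.Modules} {j : L ⟶ A.toModule} (h : Dec j) (U : X.Opens) :
    (Γ(X, U) × Γ(L, U)) ≃ₗ[Γ(X, U)] Γ(A.toModule, U) :=
  LinearEquiv.ofBijective
    { toFun := fun p => toG A U (algebraMap Γ(X, U) (S A U) p.1 + jS j U p.2)
      map_add' := fun p q => by
        rw [← map_add (toG A U), Prod.fst_add, Prod.snd_add, map_add (algebraMap _ _), jS_add]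
        congr 1
        abel
      map_smul' := fun r p => by
        rw [RingHom.id_apply, ← map_smul, Prod.smul_fst, Prod.smul_snd, jS_smul, smul_add, smul_eq_mul,
          map_mul, ← Algebra.smul_def] }
    ((toG A U).bijective.comp (h U))

theorem isFinLocFreeOfRank_kernel (hA : FlatMod.IsFinLocFreeOfRank d A.toModule) (hτ : FinCov.IsTrace A τ)
    (hd : IsUnit (d : Γ(X, ⊤))) : FlatMod.IsFinLocFreeOfRank (d - 1) (kernel τ) := by
  refine LocFree.isFinLocFreeOfRank_of_sections (Groth.Agent.PerfA.QCohSerre.isQCoh_kernel τ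
    (Groth.Agent.Ega2.QCohLocal.isQCoh_of_isFinLocFree (isFinLocFree hA))
    (Groth.Agent.Ega2.QCohLocal.isQCoh_structureModule X)) fun V hV => ?_
  obtain ⟨h1, h2, h3⟩ := sections_of_isFinLocFreeOfRank hA hV
  have e := equiv (dec_kernel hA hτ hd) V
  exact Retr.complement e h1 h2 h3

end K993.Split
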